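import Mathlib
import Groth.Prelude.Def_MoreMor
import Groth.Agent.S18056
import Groth.Agent.Lib.Lead.FSm1
import Groth.Agent.Lib.Helper7.FinDeg.Chart

set_option linter.style.haveILetI false
set_option linter.unusedVariables false
set_option linter.unusedSectionVars false
set_option autoImplicit false
set_option backward.isDefEq.respectTransparency.types false
set_option synthInstance.maxHeartbeats 400000
set_option maxHeartbeats 1600000

namespace Groth.Agent.Helper7.FSStalk

open CategoryTheory CategoryTheory.Limits AlgebraicGeometry TopologicalSpace Opposite IsLocalRing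

universe u

/-! helper7: stalk maps of formally smooth morphisms (lifting sense) are formally smooth; lengths of generic local rings agree -/

/-- the image of a subfield under a ring homomorphism to a nontrivial ring is a field -/
theorem isField_map {R S : Type*} [CommRing R] [CommRing S] [Nontrivial S] (φ : R →+* S)
    (K : Subring R) (hK : IsField K) : IsField (K.map φ) := by
  refine ⟨⟨0, 1, ?_⟩, fun a b => mul_comm a b, ?_⟩
  · intro h
    exact zero_ne_one (α := S) (congrArg Subtype.val h)
  · rintro ⟨a', a, ha, rfl⟩ ha0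
    have ha0' : (⟨a, ha⟩ : K) ≠ 0 := by
      intro h
      apply ha0
      have h1 : a = 0 := congrArg Subtype.val h
      apply Subtype.ext
      show φ a = 0
      rw [h1, map_zero]
    obtain ⟨b, hb⟩ := hK.mul_inv_cancel ha0'
    refine ⟨⟨φ b.1, ⟨b.1, b.2, rfl⟩⟩, ?_⟩
    apply Subtype.ext
    show φ a * φ b.1 = 1
    have h2 : a * b.1 = 1 := congrArg Subtype.val hb
    rw [← map_mul, h2, map_one]

/-- stalk maps of formally smooth morphisms (lifting sense) are formally smooth -/
theorem formallySmooth_stalkMap {X' X : Scheme.{u}} (f : X' ⟶ X)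
    (hf : MoreMor.IsFormallySmoothHom f) (x' : X') :
    letI := (f.stalkMap x').hom.toAlgebra
    Algebra.FormallySmooth (X.presheaf.stalk (f x')) (X'.presheaf.stalk x') := by
  obtain ⟨V, hV, hxV, -⟩ := exists_isAffineOpen_mem_and_subset (x := f x') (U := ⊤) trivial
  have hx'V : x' ∈ f ⁻¹ᵁ V := hxV
  obtain ⟨U, hU, hxU, hUV⟩ := exists_isAffineOpen_mem_and_subset (x := x') (U := f ⁻¹ᵁ V) hx'V
  have e : U ≤ f ⁻¹ᵁ V := hUV
  letI algRA' : Algebra Γ(X, V) Γ(X', U) := (f.appLE V U e).hom.toAlgebra
  haveI hsm : Algebra.FormallySmooth Γ(X, V) Γ(X', U) :=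
    Groth.Agent.Lead.FSm.formallySmooth_appLE hf hU hV e
  letI algA'B : Algebra Γ(X', U) (X'.presheaf.stalk x') :=
    (X'.presheaf.germ U x' hxU).hom.toAlgebra
  haveI : IsLocalization.AtPrime (X'.presheaf.stalk x') (hU.primeIdealOf ⟨x', hxU⟩).asIdeal :=
    hU.isLocalization_stalk ⟨x', hxU⟩
  letI algR'A : Algebra Γ(X, V) (X.presheaf.stalk (f x')) :=
    (X.presheaf.germ V (f x') hxV).hom.toAlgebra
  haveI : IsLocalization.AtPrime (X.presheaf.stalk (f x')) (hV.primeIdealOf ⟨f x', hxV⟩).asIdeal :=
    hV.isLocalization_stalk ⟨f x', hxV⟩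
  letI algAB : Algebra (X.presheaf.stalk (f x')) (X'.presheaf.stalk x') :=
    (f.stalkMap x').hom.toAlgebra
  letI algR'B : Algebra Γ(X, V) (X'.presheaf.stalk x') :=
    ((X'.presheaf.germ U x' hxU).hom.comp (f.appLE V U e).hom).toAlgebra
  haveI : IsScalarTower Γ(X, V) Γ(X', U) (X'.presheaf.stalk x') :=
    IsScalarTower.of_algebraMap_eq (fun _ => rfl)
  haveI : IsScalarTower Γ(X, V) (X.presheaf.stalk (f x')) (X'.presheaf.stalk x') := by
    apply IsScalarTower.of_algebraMap_eq
    intro a
    exact Groth.Agent.Helper7.FinDeg.germ_appLE f e x' hxU a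
  haveI : Algebra.FormallySmooth Γ(X', U) (X'.presheaf.stalk x') :=
    Algebra.FormallySmooth.of_isLocalization (hU.primeIdealOf ⟨x', hxU⟩).asIdeal.primeCompl
  haveI : Algebra.FormallySmooth Γ(X, V) (X'.presheaf.stalk x') :=
    Algebra.FormallySmooth.comp Γ(X, V) Γ(X', U) (X'.presheaf.stalk x')
  exact Algebra.FormallySmooth.localization_base (hV.primeIdealOf ⟨f x', hxV⟩).asIdeal.primeCompl

/-- the local ring at the generic point of an irreducible Noetherian scheme is Artinian -/
theorem isArtinianRing_stalk_genericPoint (X : Scheme.{u}) [IrreducibleSpace ↥X] [IsNoetherian X]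
    (x : X) (hx : x = genericPoint X) : IsArtinianRing (X.presheaf.stalk x) := by
  subst hx
  have hmax : IsMax (genericPoint ↥X) := by
    intro b hb
    exact genericPoint_specializes b
  haveI : Ring.KrullDimLE 0 (X.presheaf.stalk (genericPoint ↥X)) :=
    AlgebraicGeometry.krullDimLE_of_coheight_le
      (by rw [Order.coheight_eq_zero.mpr hmax]; rfl)
  exact isArtinianRing_iff_isNoetherianRing_krullDimLE_zero.mpr ⟨inferInstance, inferInstance⟩

theorem main {X' X : Scheme.{u}} (f : X' ⟶ X)
    [IrreducibleSpace ↥X'] [IrreducibleSpace ↥X] [IsNoetherian X'] [IsNoetherian X] [Flat f]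
    (hf : MoreMor.IsFormallySmoothHom f) (hK : ∃ K : Subring Γ(X, ⊤), IsField K) :
    Module.length (X'.presheaf.stalk (genericPoint X')) (X'.presheaf.stalk (genericPoint X'))
      = Module.length (X.presheaf.stalk (genericPoint X)) (X.presheaf.stalk (genericPoint X)) := by
  have hη : f (genericPoint X') = genericPoint X := by
    obtain ⟨y', hy', hfy'⟩ := Flat.generalizingMap (f := f)
      (genericPoint_specializes (f (genericPoint X')))
    have h1 : y' = genericPoint X' :=
      (hy'.antisymm (genericPoint_specializes y')).eq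
    rw [← h1]
    exact hfy'
  haveI hA : IsArtinianRing (X.presheaf.stalk (f (genericPoint X'))) :=
    isArtinianRing_stalk_genericPoint X _ hη
  haveI hB : IsArtinianRing (X'.presheaf.stalk (genericPoint X')) :=
    isArtinianRing_stalk_genericPoint X' _ rfl
  rw [← hη]
  letI algAB : Algebra (X.presheaf.stalk (f (genericPoint X')))
      (X'.presheaf.stalk (genericPoint X')) := (f.stalkMap (genericPoint X')).hom.toAlgebra
  haveI : Module.Flat (X.presheaf.stalk (f (genericPoint X')))
      (X'.presheaf.stalk (genericPoint X')) := Flat.stalkMap f (genericPoint X')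
  haveI : Algebra.FormallySmooth (X.presheaf.stalk (f (genericPoint X')))
      (X'.presheaf.stalk (genericPoint X')) := formallySmooth_stalkMap f hf (genericPoint X')
  obtain ⟨K, hKf⟩ := hK
  have hK' : ∃ K' : Subring (X.presheaf.stalk (f (genericPoint X'))), IsField K' :=
    ⟨K.map (X.presheaf.germ ⊤ (f (genericPoint X')) trivial).hom, isField_map _ K hKf⟩
  exact (Groth.Agent.S18056.result (X.presheaf.stalk (f (genericPoint X')))
    (X'.presheaf.stalk (genericPoint X')) hK').symm

end Groth.Agent.Helper7.FSStalk
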